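import Mathlib
import Cfsg.Agent.Lib.Helper18.PRL.Defs

/-!
# Project GBT (general Blackburn theory, `p` odd): definitions

`HypFrom G n L H`: `H` is a two-step centralizer of all levels `L ≤ j ≤ n - 2`
(`Hyp G n H = HypFrom G n 3 H`).  `ch s s1 i` is the chain `t_1 = s1`, `t_{i+1} = ⁅s, t_i⁆`.
`Setting p G n L H s s1` bundles the standing hypotheses of the key lemmas.
-/

set_option autoImplicit false

namespace Cfsg.Agent.Lib.Helper18.GBT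

open Cfsg.Agent.Lib.Helper18.PRL
open scoped commutatorElement

/-- `[H, Z_j] ≤ Z_{j-2}` for all `L ≤ j ≤ n - 2`. -/
def HypFrom (G : Type*) [Group G] (n L : ℕ) (H : Subgroup G) : Prop :=
  ∀ j : ℕ, L ≤ j → j ≤ n - 2 → ∀ h ∈ H, ∀ z ∈ Z G j, ⁅h, z⁆ ∈ Z G (j - 2)

theorem hypFrom_three {G : Type*} [Group G] (n : ℕ) (H : Subgroup G) :
    HypFrom G n 3 H ↔ Hyp G n H := Iff.rfl

theorem HypFrom.mono {G : Type*} [Group G] {n L L' : ℕ} {H : Subgroup G} (h : HypFrom G n L H)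
    (hL : L ≤ L') : HypFrom G n L' H :=
  fun j hj hj' => h j (le_trans hL hj) hj'

/-- The chain `t_1 = s1`, `t_{i+1} = ⁅s, t_i⁆` (and `t_0 = s1`, unused). -/
def ch {G : Type*} [Group G] (s s1 : G) (i : ℕ) : G := (fun x => ⁅s, x⁆)^[i - 1] s1

theorem ch_one {G : Type*} [Group G] (s s1 : G) : ch s s1 1 = s1 := rfl

theorem ch_succ {G : Type*} [Group G] (s s1 : G) (i : ℕ) (hi : 1 ≤ i) :
    ch s s1 (i + 1) = ⁅s, ch s s1 i⁆ := by
  obtain ⟨k, rfl⟩ : ∃ k, i = k + 1 := ⟨i - 1, by omega⟩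
  show (fun x => ⁅s, x⁆)^[k + 1] s1 = ⁅s, (fun x => ⁅s, x⁆)^[k] s1⁆
  rw [Function.iterate_succ_apply']

/-- conjugation by `s` sends `t_i` to `t_{i+1} * t_i` -/
theorem conj_ch {G : Type*} [Group G] (s s1 : G) (i : ℕ) (hi : 1 ≤ i) :
    s * ch s s1 i * s⁻¹ = ch s s1 (i + 1) * ch s s1 i := by
  rw [ch_succ s s1 i hi, commutatorElement_def]; group

/-- bilinear expansion of a commutator of products under commutation hypotheses -/
theorem comm_expand {X : Type*} [Group X] (x x' y y' : X)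
    (h1 : x' * ⁅x, y⁆ = ⁅x, y⁆ * x') (h2 : x' * ⁅x, y'⁆ = ⁅x, y'⁆ * x')
    (h3 : y' * ⁅x, y⁆ = ⁅x, y⁆ * y') (h4 : y' * ⁅x', y⁆ = ⁅x', y⁆ * y') :
    ⁅x' * x, y' * y⁆ = ⁅x, y'⁆ * ⁅x, y⁆ * ⁅x', y'⁆ * ⁅x', y⁆ := by
  have e1 : ⁅x' * x, y' * y⁆ = x' * ⁅x, y' * y⁆ * x'⁻¹ * ⁅x', y' * y⁆ := by
    simp only [commutatorElement_def]; group
  have e2 : ⁅x, y' * y⁆ = ⁅x, y'⁆ * (y' * ⁅x, y⁆ * y'⁻¹) := by
    simp only [commutatorElement_def]; group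
  have e3 : ⁅x', y' * y⁆ = ⁅x', y'⁆ * (y' * ⁅x', y⁆ * y'⁻¹) := by
    simp only [commutatorElement_def]; group
  rw [e1, e2, e3, h3, h4, mul_inv_cancel_right, mul_inv_cancel_right]
  have e4 : x' * (⁅x, y'⁆ * ⁅x, y⁆) * x'⁻¹ = ⁅x, y'⁆ * ⁅x, y⁆ := by
    rw [← mul_assoc, h2, mul_assoc ⁅x, y'⁆, h1, ← mul_assoc, mul_inv_cancel_right]
  rw [e4, mul_assoc (⁅x, y'⁆ * ⁅x, y⁆)]

/-- conjugation is an automorphism: `g ⁅a, b⁆ g⁻¹ = ⁅g a g⁻¹, g b g⁻¹⁆` -/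
theorem conj_comm {X : Type*} [Group X] (g a b : X) :
    g * ⁅a, b⁆ * g⁻¹ = ⁅g * a * g⁻¹, g * b * g⁻¹⁆ := by
  simp only [commutatorElement_def]; group

/-- Standing hypotheses of the key lemmas: `G` of maximal class of order `p ^ n`, `H` of index `p`
a two-step centralizer of the levels `L ≤ j ≤ n - 2`, `s ∉ H` uniform, `s1 ∈ H ∖ G'`. -/
structure Setting (p : ℕ) (G : Type*) [Group G] (n L : ℕ) (H : Subgroup G) (s s1 : G) : Prop where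
  mc : MC p G n
  idx : H.index = p
  hyp : HypFrom G n L H
  hsH : s ∉ H
  unif : Unif G n s
  hs1 : s1 ∈ H
  hs1' : s1 ∉ commutator G

end Cfsg.Agent.Lib.Helper18.GBT
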