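import Mathlib
import Cfsg.Prelude.Def_CaseTheorems
import Cfsg.Agent.Lib.Helper18.GBT.Defs
import Cfsg.Agent.Lib.Helper18.GBTKEY1a
import Cfsg.Agent.Lib.Helper18.GBTKEY1b
import Cfsg.Agent.Lib.Helper18.GBTKEY2
import Cfsg.Agent.Lib.Helper10.GBTS1EX
import Cfsg.Agent.Lib.Helper10.GBTABEL
import Cfsg.Agent.Lib.helper23.GBTUC
import Cfsg.Agent.Lib.Helper20.GBTIND
import Cfsg.Agent.Lib.Helper21.MaxClassP
import Cfsg.Agent.Lib.Helper21.SecRank
import Cfsg.Agent.Lib.Helper10.MCPPOW
import Cfsg.Agent.Lib.helper23.PRLCH1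
import Cfsg.Agent.Lib.helper23.GBTSET
import Cfsg.Agent.Lib.Helper20.GBTKEY3b

/-!
# Project GBT: main theorems (assembly)
-/

set_option autoImplicit false

namespace Cfsg.Agent.Lib.Helper18.GBT

open Cfsg.Agent.Lib.Helper18.PRL
open scoped commutatorElement

universe u

section mc
variable {p : ℕ} [Fact p.Prime] {G : Type u} [Group G] [Finite G] {n : ℕ}


theorem key_two (h : MC p G n) (hn : 5 ≤ n) (hp : p ≠ 2) (hodd : Odd n) (H : Subgroup G)
    (hH : H.index = p) (hyp : Hyp G n H) : H ≤ G1 G := by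
  obtain ⟨s, hsH, hU⟩ := exists_unif h (by omega) hp H hH
    (HypFrom.mono ((hypFrom_three n H).2 hyp) (by norm_num))
  obtain ⟨s1, hs1, hs1'⟩ := exists_mem_notMem_commutator h (by omega) H hH
  exact key_two_setting (s := s) (s1 := s1)
    ⟨h, hH, (hypFrom_three n H).2 hyp, hsH, hU, hs1, hs1'⟩ hn hodd

theorem key_one (h : MC p G n) (hn : 7 ≤ n) (hp : p ≠ 2) (hodd : Odd n) (hnp : n ≤ 2 * p + 1)
    (H : Subgroup G) (hH : H.index = p) (hyp : HypFrom G n 4 H) : Hyp G n H := by
  obtain ⟨s, hsH, hU⟩ := exists_unif h (by omega) hp H hH hyp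
  obtain ⟨s1, hs1, hs1'⟩ := exists_mem_notMem_commutator h (by omega) H hH
  have S : Setting p G n 4 H s s1 := ⟨h, hH, hyp, hsH, hU, hs1, hs1'⟩
  have h3 := key_one_of_alpha S (by omega) (key_one_alpha S hn hodd hnp)
  intro j hj3 hj x hx z hz
  rcases Nat.lt_or_ge j 4 with hj4 | hj4
  · have : j = 3 := by omega
    subst this
    exact h3 x hx z hz
  · exact hyp j hj4 hj x hx z hz

/-- **Blackburn**: the two-step centralizers of the levels `3 ≤ j ≤ n - 2` coincide, and they
equal `C_G(Z_2)` when `n = 4`, `n` odd or `n ≥ p + 3`. -/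
theorem blackburn (hp : p ≠ 2) (h : MC p G n) (hn : 4 ≤ n) :
    ∃ H : Subgroup G, H.index = p ∧ Hyp G n H ∧ ((n = 4 ∨ Odd n ∨ p + 3 ≤ n) → H ≤ G1 G) :=
  main_of_keys hp
    (fun _ _ _ _ hm h7 ho hmp H hH hy => key_one hm h7 hp ho hmp H hH hy)
    (fun _ _ _ _ hm h5 ho H hH hy => key_two hm h5 hp ho H hH hy)
    (fun _ _ _ _ hm h3 H hH hy => key_three hm h3 hp H hH hy) n G h hn

/-- every `p`-group of maximal class (`p` odd, order `≥ p ^ 4`) has an element whose centralizer
has order at most `p ^ 2` -/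
theorem exists_small_centralizer (hp : p ≠ 2) (h : MC p G n) (hn : 4 ≤ n) :
    ∃ s : G, Nat.card (Subgroup.centralizer ({s} : Set G)) ≤ p ^ 2 := by
  obtain ⟨H, hH, hyp, -⟩ := blackburn hp h hn
  obtain ⟨s, hsH, hU⟩ := exists_unif h hn hp H hH
    (HypFrom.mono ((hypFrom_three n H).2 hyp) (by norm_num))
  exact ⟨s, card_centralizer_le_of_unif h hn H hH s hsH hU⟩

/-- unconditional power structure (`p` odd) -/
theorem power_structure' (hp : p ≠ 2) (h : MC p G n) (hn : 4 ≤ n) (i : ℕ) (hi : i ≤ n - 2) :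
    (∀ y ∈ Z G i, y ^ p ∈ Z G (i - (p - 1))) ∧
      (p ≤ i → ∀ y ∈ Z G i, y ∉ Z G (i - 1) → y ^ p ∉ Z G (i - p)) := by
  obtain ⟨s, hs⟩ := exists_small_centralizer hp h hn
  exact Cfsg.Agent.Lib.helper4.MCP.power_structure h hn s hs i hi

end mc

/-! ## S3806 -/

theorem s3806_main {S : Type u} [Group S] [Finite S] (p : ℕ) [Fact p.Prime]
    (n : ℕ) (hcard : Nat.card S = p ^ n) (hmax : Group.nilpotencyClass S = n - 1)
    (k : ℕ) (hk : 1 ≤ k) (hsr : Cfsg.SectionalPRankLE p k S)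
    (hpk : k + 2 ≤ p) : Nat.card S ≤ p ^ (2 * k) := by
  have hpp : p.Prime := Fact.out
  by_contra hlt
  rw [not_le, hcard] at hlt
  have hnk : 2 * k < n := (Nat.pow_lt_pow_iff_right hpp.one_lt).1 hlt
  have hMC : MC p S n := ⟨hcard, hmax⟩
  rcases Nat.eq_or_lt_of_le hk with hk1 | hk2
  · -- k = 1
    subst hk1
    obtain ⟨hidx, hpow⟩ := Helper21.mc_p_index p n S (by omega) hcard hmax
    have h1 := Helper21.SecRank.card_le_of_section hsr ⊤ (commutator S) le_top
      (fun h _ x hx => Subgroup.Normal.conj_mem inferInstance x hx h)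
      (fun x _ y _ => by
        have := Subgroup.commutator_mem_commutator (Subgroup.mem_top x) (Subgroup.mem_top y)
        rwa [commutatorElement_def] at this)
      (fun x _ => hpow x)
    have h2 := Subgroup.card_mul_index (commutator S)
    rw [hidx] at h2
    rw [Subgroup.card_top, ← h2] at h1
    have hpos : 0 < Nat.card (commutator S) := Nat.card_pos
    have : p ^ 2 ≤ p ^ 1 := by
      have h3 : Nat.card (commutator S) * p ^ 2 ≤ Nat.card (commutator S) * p ^ 1 := by
        rw [mul_comm _ (p ^ 1)]; exact h1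
      exact Nat.le_of_mul_le_mul_left h3 hpos
    exact absurd ((Nat.pow_le_pow_iff_right hpp.one_lt).1 this) (by norm_num)
  · -- k ≥ 2
    have hp2 : p ≠ 2 := by omega
    have hcA : Nat.card (Z S (k + 1)) = p ^ (k + 1) := card_Z hMC (by omega) (k + 1) (by omega)
    have hpw := (power_structure' hp2 hMC (by omega) (k + 1) (by omega)).1
    have h0 : k + 1 - (p - 1) = 0 := by omega
    rw [h0] at hpw
    have hab := Z_comm hMC (by omega) (k + 1) (by omega) (by omega)
    have h1 := Helper21.SecRank.card_le_of_section hsr (Z S (k + 1)) ⊥ bot_le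
      (fun h _ x hx => by
        rw [Subgroup.mem_bot] at hx ⊢; subst hx; simp)
      (fun x hx y hy => by
        rw [Subgroup.mem_bot, hab x hx y hy]; group)
      (fun x hx => hpw x hx)
    rw [hcA, Subgroup.card_bot, mul_one] at h1
    exact absurd ((Nat.pow_le_pow_iff_right hpp.one_lt).1 h1) (by omega)

end Cfsg.Agent.Lib.Helper18.GBT
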